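import Groth.Agent.SGA3x.K197.RatNodes4
import Groth.Agent.SGA3x.K916.DimTori
import Groth.Agent.SGA3x.K20.RatN18
import Groth.Agent.SGA3x.K366.RatDesc
import Groth.Agent.NonAbH1.K554.BcPt
import Groth.Agent.AGF.K493.MultSub
import Groth.Agent.S5247

/-!
# The dimensions of the schemes of maximal tori of a group and of a subgroup

`G` smooth affine over `k`, `H ⊆ G_{K'}` smooth affine, `F / K'` an extension, `T` a maximal torus of `G_F` which is
contained in `H_F` together with its centralizer: then `dim G - dim 𝒯_G = dim H - dim 𝒯_H` (`main : K197.Rat.S4_dims`),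
since both are equal to the dimension of the centralizer of `T`.
-/

set_option autoImplicit false
universe u
open CategoryTheory CategoryTheory.Limits AlgebraicGeometry MonoidalCategory CartesianMonoidalCategory MonObj GrpObj

namespace K719.RatDims

open Groth.Agent Groth.Agent.Sga3B Groth.Agent.Sga3B.MT K554.BcPt

lemma isMonHom_of_comp_mono {S : Scheme.{u}} {X Y Z : Over S} [GrpObj X] [GrpObj Y] [GrpObj Z] (f : X ⟶ Y)
    (j : Y ⟶ Z) [IsMonHom j] [Mono j] (h : IsMonHom (f ≫ j)) : IsMonHom f where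
  one_hom := by
    rw [← cancel_mono j, Category.assoc, IsMonHom.one_hom (f ≫ j), IsMonHom.one_hom j]
  mul_hom := by
    rw [← cancel_mono j, Category.assoc, IsMonHom.mul_hom (f ≫ j), Category.assoc, IsMonHom.mul_hom j,
      ← Category.assoc, MonoidalCategory.tensorHom_comp_tensorHom]

/-- The maximal torus and its centralizer as subgroups of `H_F`. -/
theorem exists_cent {S S' S'' : Scheme.{u}} (f : S'' ⟶ S') (g : S' ⟶ S) (b : S'' ⟶ S) (hfg : f ≫ g = b)
    [IsAffine S''] (G : Over S) [GrpObj G] [Smooth G.hom] [IsAffineHom G.hom] (H : Over S') [GrpObj H]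
    (m : H ⟶ Red.bc g G) [IsMonHom m] [Mono m] (T : Over S'') [GrpObj T] (j : T ⟶ Red.bc b G)
    (hj : Red.IsMaximalTorus j) (s : T.left ⟶ H.left) (hs : s ≫ H.hom = T.hom ≫ f)
    (hs' : s ≫ m.left ≫ pullback.fst G.hom g = j.left ≫ pullback.fst G.hom b)
    (hC : ∀ (X : Over S'') [IsAffine X.left] (c : (Over.map b).obj X ⟶ G),
      (∀ (X' : Over S'') (y : X' ⟶ X) (β : (Over.map b).obj X' ⟶ G),
        (∃ a : X' ⟶ T, a.left ≫ j.left ≫ pullback.fst G.hom b = β.left) →
          ((Over.map b).map y ≫ c) * β = β * ((Over.map b).map y ≫ c)) →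
      ∃ h : X.left ⟶ H.left, h ≫ H.hom = X.hom ≫ f ∧ h ≫ m.left ≫ pullback.fst G.hom g = c.left) :
    ∃ (C : Over S'') (_ : GrpObj C) (c : C ⟶ Red.bc b G) (t : T ⟶ Red.bc f H) (c' : C ⟶ Red.bc f H),
      Red.IsCentralizerOf j c ∧ Red.IsMaximalTorus t ∧ Red.IsCentralizerOf t c' := by
  subst hfg
  have hj1 : IsMonHom j := hj.1
  have hj2 : Mono j := hj.2.1
  have hGs : Smooth (Red.bc (f ≫ g) G).hom := MorphismProperty.pullback_snd _ _ inferInstance
  have hGa : IsAffineHom (Red.bc (f ≫ g) G).hom := MorphismProperty.pullback_snd _ _ inferInstance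
  obtain ⟨Z, _, z, hz, hzc, -⟩ := S5247.result T (Red.bc (f ≫ g) G)
    (K493.MultSub.isMultTypeFT_of_isTorus hj.2.2.1) hGs hGa j
  have hz1 : IsMonHom z := hz.1
  have hz2 : Mono z := hz.2.1
  have hGaf : IsAffine (Red.bc (f ≫ g) G).left := isAffine_of_isAffineHom (Red.bc (f ≫ g) G).hom
  have hZaf : IsAffine Z.left := isAffine_of_isAffineHom z.left
  have hm1 : IsMonHom (bcSub f m) := K366.RatDesc.isMonHom_bcSub m
  have hm2 : Mono (bcSub f m) := K366.RatDesc.mono_bcSub m
  -- the torus
  let t : T ⟶ Red.bc f H := Over.homMk (pullback.lift s T.hom hs) (pullback.lift_snd _ _ _)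
  have ht0 : t.left ≫ pullback.fst H.hom f = s := pullback.lift_fst _ _ _
  have htp : t ≫ bcSub f m = j := by
    apply Over.OverMorphism.ext
    apply pullback.hom_ext
    · rw [Over.comp_left, Category.assoc, bcSub_fst, reassoc_of% ht0, hs']
    · exact (Over.w (t ≫ bcSub f m)).trans (Over.w j).symm
  have ht : Red.IsMaximalTorus t :=
    Sga3.H798.MaxTorCent.isMaximalTorus_of_comp t (bcSub f m) (by rw [htp]; exact hj)
  -- its centralizer
  have hcomm := (hz.2.2 Z z).1 ⟨𝟙 _, Category.id_comp _⟩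
  obtain ⟨h, hh1, hh2⟩ := hC Z (un (f ≫ g) z) (by
    rintro X' y β ⟨a, ha⟩
    have hβ : β = un (f ≫ g) (a ≫ j) := by
      apply Over.OverMorphism.ext
      rw [un_left, ← ha, Over.comp_left, Category.assoc]
    rw [hβ, ← un_comp, ← un_mul, ← un_mul, hcomm X' y a])
  let c' : Z ⟶ Red.bc f H := Over.homMk (pullback.lift h Z.hom hh1) (pullback.lift_snd _ _ _)
  have hc0 : c'.left ≫ pullback.fst H.hom f = h := pullback.lift_fst _ _ _
  have hcp : c' ≫ bcSub f m = z := by
    apply Over.OverMorphism.ext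
    apply pullback.hom_ext
    · rw [Over.comp_left, Category.assoc, bcSub_fst, reassoc_of% hc0, hh2, un_left]
    · exact (Over.w (c' ≫ bcSub f m)).trans (Over.w z).symm
  have hc1 : IsMonHom c' := isMonHom_of_comp_mono c' (bcSub f m) (by rw [hcp]; exact hz1)
  have hc2 : Mono c' := by
    have : Mono (c' ≫ bcSub f m) := by rw [hcp]; exact hz2
    exact mono_of_mono c' (bcSub f m)
  refine ⟨Z, ‹_›, z, t, c', hz, ht, hc1, hc2, fun X ξ => ⟨?_, ?_⟩⟩
  · rintro ⟨w, rfl⟩ X' x τ
    rw [← cancel_mono (bcSub f m), MonObj.mul_comp, MonObj.mul_comp]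
    simp only [Category.assoc]
    rw [htp, hcp]
    have := hcomm X' (x ≫ w) τ
    simpa only [Category.assoc] using this
  · intro hξ
    obtain ⟨w, hw⟩ := (hz.2.2 X (ξ ≫ bcSub f m)).2 (fun X' x τ => by
      rw [← htp, ← Category.assoc, ← Category.assoc τ t, ← MonObj.mul_comp, ← MonObj.mul_comp, hξ X' x τ])
    exact ⟨w, by rw [← cancel_mono (bcSub f m), Category.assoc, hcp, hw]⟩

/-- arithmetic of dimensions -/
lemma dim_arith {a b c : WithBot ℕ∞} {n h q : ℕ} (h1 : (n : WithBot ℕ∞) = a + c) (h2 : (h : WithBot ℕ∞) = b + c)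
    (hq : n = h + q) : ∃ d : ℕ, b = (d : WithBot ℕ∞) ∧ a = ((q + d : ℕ) : WithBot ℕ∞) := by
  subst hq
  induction c with
  | bot => rw [WithBot.add_bot] at h2; exact absurd h2 (WithBot.natCast_ne_bot h)
  | coe c =>
    induction b with
    | bot => rw [WithBot.bot_add] at h2; exact absurd h2 (WithBot.natCast_ne_bot h)
    | coe b =>
      induction a with
      | bot => rw [WithBot.bot_add] at h1; exact absurd h1 (WithBot.natCast_ne_bot _)
      | coe a =>
        have h1' : ((h + q : ℕ) : ℕ∞) = a + c := by exact_mod_cast h1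
        have h2' : (h : ℕ∞) = b + c := by exact_mod_cast h2
        induction c using ENat.recTopCoe with
        | top => rw [add_top] at h2'; exact absurd h2' (ENat.natCast_ne_top h)
        | coe c =>
          induction b using ENat.recTopCoe with
          | top => rw [top_add] at h2'; exact absurd h2' (ENat.natCast_ne_top h)
          | coe b =>
            induction a using ENat.recTopCoe with
            | top => rw [top_add] at h1'; exact absurd h1' (ENat.natCast_ne_top _)
            | coe a =>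
              have h3 : h + q = a + c := by exact_mod_cast h1'
              have h4 : h = b + c := by exact_mod_cast h2'
              have h5 : a = q + b := by omega
              subst h5
              exact ⟨b, rfl, rfl⟩

/-- **The dimensions of the schemes of maximal tori.** -/
theorem main : K197.Rat.S4_dims.{u} := by
  intro k K' F _ _ _ _ _ _ _ G _ _ _ 𝒯 Tu _ iu h𝒯 H _ _ _ m _ _ 𝒯' Tu' _ iu' h𝒯' x hxk s hs hs' hC n h q hn hh hq
  have hfg : K197.Rat.bs K' F ≫ K197.Rat.bs k K' = K197.Rat.bs k F := by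
    rw [← Spec.map_comp, ← CommRingCat.ofHom_comp, ← IsScalarTower.algebraMap_eq]
  obtain ⟨j, hj, -, -, -, -, -, hjl⟩ := K20.RatN18.main k F G 𝒯 Tu iu h𝒯 x hxk
  have hGa : IsAffineHom G.hom := inferInstance
  obtain ⟨C, _, c, t, c', hc, ht, hc'⟩ := exists_cent (K197.Rat.bs K' F) (K197.Rat.bs k K') (K197.Rat.bs k F) hfg
    G H m (Red.bc x Tu) j hj s hs (hs'.trans hjl.symm) (by
      intro X _ ξ hξ
      refine hC X ξ ?_
      rintro X' y β ⟨a, ha1, ha2⟩
      refine hξ X' y β ⟨Over.homMk (pullback.lift a X'.hom ha1) (pullback.lift_snd _ _ _), ?_⟩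
      rw [hjl, ← ha2]
      exact congrArg (· ≫ iu.left ≫ pullback.fst G.hom 𝒯.hom) (pullback.lift_fst a X'.hom ha1))
  have d1 := K916.DimTori.main k G 𝒯 Tu iu h𝒯 F (Red.bc x Tu) C j hj c hc
  have d2 := K916.DimTori.main K' H 𝒯' Tu' iu' h𝒯' F (Red.bc x Tu) C t ht c' hc'
  rw [hn] at d1
  rw [hh] at d2
  exact dim_arith d1 d2 hq

end K719.RatDims
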